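import Cfsg.Agent.Lib.Grp.M22Local.Common
import Cfsg.Agent.Lib.Block.FischerTypes.M23Order

/-! Elements of odd prime order in the centraliser of a member, in a group of type M(23). -/

set_option autoImplicit false
set_option linter.style.haveILetI false
set_option linter.unusedSectionVars false

namespace Cfsg.Agent.Grp.M23Local

open Cfsg Cfsg.Agent.Spor.ThreeTrans Cfsg.Agent.Block.FischerTypes Cfsg.Agent.Grp.M22Local

variable {G : Type*} [Group G] [Finite G] {D : Set G}

/-- The image in the perpendicular quotient. -/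
abbrev img {d g : G} (hg : g ∈ PerpGroup D d) : PerpQuot D d :=
  QuotientGroup.mk (⟨g, hg⟩ : ↥(PerpGroup D d))

omit [Finite G] in
theorem img_mul {d g k : G} (hg : g ∈ PerpGroup D d) (hk : k ∈ PerpGroup D d) :
    img (mul_mem hg hk) = img hg * img hk := rfl

omit [Finite G] in
theorem img_inv {d g : G} (hg : g ∈ PerpGroup D d) : img (inv_mem hg) = (img hg)⁻¹ := rfl

omit [Finite G] in
theorem img_pow {d g : G} (hg : g ∈ PerpGroup D d) (n : ℕ) : img (pow_mem hg n) = img hg ^ n := rfl

omit [Finite G] in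
theorem img_eq {d g k : G} (hg : g ∈ PerpGroup D d) (hk : k ∈ PerpGroup D d) (e : g = k) : img hg = img hk := by
  subst e; rfl

variable (B : M23.Base D) {d : G} (hd : d ∈ D)
include B hd

theorem perpGroup_eq : PerpGroup D d = cen d := (M23.centralizer_eq B hd).symm

theorem mem_perpGroup {g : G} (hg : Commute g d) : g ∈ PerpGroup D d := by
  rw [perpGroup_eq B hd]; exact mem_cen.mpr hg

theorem commute_of_mem {g : G} (hg : g ∈ PerpGroup D d) : Commute g d := M22.commute_self hg

theorem card_cen : Nat.card ↥(cen d) = 2 * 64561751654400 := by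
  rw [← perpGroup_eq B hd]; exact M23.card_perpGroup B hd

theorem img_eq_one {g : G} (hg : g ∈ PerpGroup D d) : img hg = 1 ↔ g = 1 ∨ g = d := by
  rw [QuotientGroup.eq_one_iff, M23.centre B hd, Subgroup.mem_subgroupOf]
  constructor
  · intro k
    obtain ⟨j, hj⟩ := mem_powers_iff_mem_zpowers.mpr k
    have hj' : d ^ j = g := hj
    rw [← pow_mod_orderOf, B.set.cls.1.1 d hd] at hj'
    rcases Nat.mod_two_eq_zero_or_one j with e | e <;> rw [e] at hj'
    · exact Or.inl (by rw [← hj', pow_zero])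
    · exact Or.inr (by rw [← hj', pow_one])
  · rintro (rfl | rfl)
    exacts [one_mem _, Subgroup.mem_zpowers _]

/-- Elements of odd order with the same image are equal. -/
theorem lift_eq {g k : G} {n : ℕ} (hn : Odd n) (hg : g ∈ PerpGroup D d) (hk : k ∈ PerpGroup D d)
    (hgn : g ^ n = 1) (hkn : k ^ n = 1) (e : img hg = img hk) : g = k := by
  have h1 : img (mul_mem (inv_mem hk) hg) = 1 := by rw [img_mul (inv_mem hk) hg, img_inv hk, e, inv_mul_cancel]
  rcases (img_eq_one B hd _).mp h1 with h | h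
  · exact (inv_mul_eq_one.mp h).symm
  · exfalso
    have eg : g = k * d := by rw [← h, mul_inv_cancel_left]
    have hk' : Commute k d := commute_of_mem B hd hk
    rw [eg, hk'.mul_pow, hkn, one_mul, ← pow_mod_orderOf, B.set.cls.1.1 d hd, Nat.odd_iff.mp hn, pow_one] at hgn
    have h2 := B.set.cls.1.1 d hd
    rw [hgn, orderOf_one] at h2
    omega

theorem order_img {p : ℕ} [Fact p.Prime] (hp : p ≠ 2) {x : G} (hx : orderOf x = p) (hxd : x ∈ PerpGroup D d) :
    orderOf (img hxd) = p := by
  refine orderOf_eq_prime ?_ fun e => ?_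
  · rw [← img_pow hxd, img_eq_one B hd]
    exact Or.inl (hx ▸ pow_orderOf_eq_one x)
  · rcases (img_eq_one B hd hxd).mp e with k | k
    · rw [k, orderOf_one] at hx
      exact (Fact.out : p.Prime).ne_one hx.symm
    · rw [k, B.set.cls.1.1 d hd] at hx
      exact hp hx.symm

/-- An element whose image lies in the image of `⟨x⟩` and has the same odd order lies in `⟨x⟩`. -/
theorem lift_mem {n : ℕ} (hn : Odd n) {x y : G} (hxd : x ∈ PerpGroup D d) (hyd : y ∈ PerpGroup D d)
    (hx : x ^ n = 1) (hy : y ^ n = 1) (h : img hyd ∈ Subgroup.zpowers (img hxd)) :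
    y ∈ Subgroup.zpowers x := by
  obtain ⟨j, hj⟩ := mem_powers_iff_mem_zpowers.mpr h
  have hj' : img hxd ^ j = img hyd := hj
  rw [lift_eq B hd hn hyd (pow_mem hxd j) hy (by rw [← pow_mul, mul_comm, pow_mul, hx, one_pow])
    (by rw [img_pow hxd, hj'])]
  exact pow_mem (Subgroup.mem_zpowers x) j

theorem nor_iff {p : ℕ} [Fact p.Prime] (hp : p ≠ 2) {x g : G} (hx : orderOf x = p) (hxd : x ∈ PerpGroup D d)
    (hg : g ∈ PerpGroup D d) : g ∈ nor x ↔ img hg ∈ nor (img hxd) := by
  have hodd : Odd p := (Fact.out : p.Prime).odd_of_ne_two hp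
  have hxp : x ^ p = 1 := hx ▸ pow_orderOf_eq_one x
  constructor
  · intro h
    refine mem_normalizer_zpowers ?_
    obtain ⟨j, hj⟩ := mem_powers_iff_mem_zpowers.mpr (conj_mem_of_normalizer h (Subgroup.mem_zpowers x))
    have hj' : x ^ j = g * x * g⁻¹ := hj
    rw [← img_inv, ← img_mul, ← img_mul, img_eq _ (pow_mem hxd j) hj'.symm, img_pow]
    exact pow_mem (Subgroup.mem_zpowers _) j
  · intro h
    refine mem_normalizer_zpowers ?_
    refine lift_mem B hd hodd hxd (mul_mem (mul_mem hg hxd) (inv_mem hg)) hxp ?_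
      (conj_mem_of_normalizer h (Subgroup.mem_zpowers _))
    rw [conj_pow, hxp, mul_one, mul_inv_cancel]

/-- The normaliser in the centraliser of `d` is twice as big as below. -/
theorem card_nor_cen {p : ℕ} [Fact p.Prime] (hp : p ≠ 2) {x : G} (hx : orderOf x = p)
    (hxd : x ∈ PerpGroup D d) :
    Nat.card ↥(cen d ⊓ nor x) = 2 * Nat.card ↥(nor (img hxd)) := by
  set π := QuotientGroup.mk' (Subgroup.center ↥(PerpGroup D d)) with hπ
  have hs : Function.Surjective π := QuotientGroup.mk'_surjective _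
  have e1 : (cen d ⊓ nor x).subgroupOf (PerpGroup D d) = (nor (img hxd)).comap π := by
    ext ⟨g, hg⟩
    rw [Subgroup.mem_subgroupOf, Subgroup.mem_inf, Subgroup.mem_comap]
    exact ⟨fun k => (nor_iff B hd hp hx hxd hg).mp k.2,
      fun k => ⟨mem_cen.mpr (commute_of_mem B hd hg), (nor_iff B hd hp hx hxd hg).mpr k⟩⟩
  have hle : cen d ⊓ nor x ≤ PerpGroup D d := fun g hg => mem_perpGroup B hd (mem_cen.mp hg.1)
  rw [← Nat.card_congr (Subgroup.subgroupOfEquivOfLe hle).toEquiv, e1,
    Subgroup.card_eq_card_quotient_mul_card_subgroup (π.ker.subgroupOf ((nor (img hxd)).comap π))]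
  have hker : π.ker ≤ (nor (img hxd)).comap π := fun g hg => by
    rw [Subgroup.mem_comap, MonoidHom.mem_ker.mp hg]; exact one_mem _
  rw [Nat.card_congr (Subgroup.subgroupOfEquivOfLe hker).toEquiv, QuotientGroup.ker_mk', mul_comm]
  congr 1
  · rw [M23.centre B hd, Nat.card_congr (Subgroup.subgroupOfEquivOfLe (Subgroup.zpowers_le.mpr (M23.self B hd))).toEquiv,
      Nat.card_zpowers, B.set.cls.1.1 d hd]
  · let f : ↥((nor (img hxd)).comap π) →* ↥(nor (img hxd)) := π.subgroupComap (nor (img hxd))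
    have hf : Function.Surjective f := MonoidHom.subgroupComap_surjective_of_surjective π _ hs
    have hfk : f.ker = π.ker.subgroupOf ((nor (img hxd)).comap π) := by
      ext g
      rw [MonoidHom.mem_ker, Subgroup.mem_subgroupOf, MonoidHom.mem_ker]
      exact Subtype.ext_iff
    rw [show π.ker = Subgroup.center ↥(PerpGroup D d) from QuotientGroup.ker_mk' _] at hfk
    exact Nat.card_congr ((QuotientGroup.quotientMulEquivOfEq hfk.symm).trans
      (QuotientGroup.quotientKerEquivOfSurjective f hf)).toEquiv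

/-- The centraliser in the centraliser of `d` is at most twice as big as below. -/
theorem card_cent_cen {x : G} (hxd : x ∈ PerpGroup D d) :
    Nat.card ↥(fix (cen d) x) ≤ 2 * Nat.card ↥(Subgroup.centralizer ({img hxd} : Set (PerpQuot D d))) := by
  have hle : fix (cen d) x ≤ PerpGroup D d := fun g hg => mem_perpGroup B hd (mem_cen.mp hg.1)
  let f : ↥(fix (cen d) x) →* PerpQuot D d :=
    (QuotientGroup.mk' (Subgroup.center ↥(PerpGroup D d))).comp (Subgroup.inclusion hle)
  rw [Subgroup.card_eq_card_quotient_mul_card_subgroup f.ker, mul_comm]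
  refine Nat.mul_le_mul ?_ ?_
  · have hsub : f.ker.map (fix (cen d) x).subtype ≤ Subgroup.zpowers d := by
      rintro _ ⟨g, hg, rfl⟩
      rcases (img_eq_one B hd (hle g.2)).mp (MonoidHom.mem_ker.mp hg) with k | k
      · show (g : G) ∈ _
        rw [k]; exact one_mem _
      · show (g : G) ∈ _
        rw [k]; exact Subgroup.mem_zpowers d
    have h2 := Subgroup.card_le_of_le hsub
    rwa [Nat.card_zpowers, B.set.cls.1.1 d hd,
      ← Nat.card_congr (f.ker.equivMapOfInjective _ (fix (cen d) x).subtype_injective).toEquiv] at h2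
  · rw [Nat.card_congr (QuotientGroup.quotientKerEquivRange f).toEquiv]
    refine Subgroup.card_le_of_le ?_
    rintro _ ⟨g, rfl⟩
    obtain ⟨-, hgx⟩ := mem_fix.mp g.2
    rw [Subgroup.mem_centralizer_singleton_iff]
    show img (hle g.2) * img hxd = img hxd * img (hle g.2)
    rw [← img_mul, ← img_mul]
    exact img_eq _ _ hgx.eq

/-- A member below commuting with the image lifts to one commuting with `x`. -/
theorem lift_fixed {x : G} (hxd : x ∈ PerpGroup D d) {q : PerpQuot D d}
    (hq : q ∈ fixed (perpSet D d) (img hxd)) : ∃ u, ∃ hu : u ∈ perp D d, Commute u x ∧ pr D d u hu = q := by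
  have h := B.set.cls
  obtain ⟨u, hu, rfl⟩ := exists_of_mem hq.1
  have hux : x * u * x⁻¹ ∈ perp D d := perp_conj' h (commute_of_mem B hd hxd) hu
  have e : pr D d (x * u * x⁻¹) hux = pr D d u hu := by
    show img (mul_mem (mul_mem hxd (Subgroup.subset_closure hu)) (inv_mem hxd)) = _
    rw [img_mul (mul_mem hxd (Subgroup.subset_closure hu)) (inv_mem hxd),
      img_mul hxd (Subgroup.subset_closure hu), img_inv hxd]
    exact mul_inv_eq_iff_eq_mul.mpr hq.2.symm.eq
  have k := pr_injective h B.set.tf hd hux hu e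
  exact ⟨u, hu, (mul_inv_eq_iff_eq_mul.mp k).symm, rfl⟩

/-- The members commuting with `d` and `x`. -/
theorem fixedPerp_card {p : ℕ} [Fact p.Prime] (hp : p ≠ 2) {x : G} (hx : orderOf x = p)
    (hxd : x ∈ PerpGroup D d) :
    (fixedPerp D x d).ncard = (fixed (perpSet D d) (img hxd)).ncard := by
  have h := B.set.cls
  refine Set.ncard_congr (fun u hu => pr D d u hu.1) (fun u hu => ⟨pr_mem hu.1, ?_⟩)
    (fun u v hu hv e => pr_injective h B.set.tf hd hu.1 hv.1 e) fun q hq => ?_
  · show img (Subgroup.subset_closure hu.1) * img hxd = img hxd * img (Subgroup.subset_closure hu.1)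
    rw [← img_mul, ← img_mul]
    exact img_eq _ _ hu.2.eq
  · obtain ⟨u, hu, hux, e⟩ := lift_fixed B hd hxd hq
    exact ⟨u, ⟨hu, hux⟩, e⟩

/-- Subgroups of order `p` in the centraliser of `d` are conjugate there. -/
theorem conj_cen {p : ℕ} [Fact p.Prime] (hp : p ≠ 2)
    (hK : ∀ X Y : Subgroup (PerpQuot D d), Nat.card ↥X = p → Nat.card ↥Y = p →
      ∃ g, X.map (MulAut.conj g).toMonoidHom = Y)
    {x y : G} (hx : orderOf x = p) (hy : orderOf y = p) (hxd : Commute x d) (hyd : Commute y d) :
    ∃ l, Commute l d ∧ Subgroup.zpowers (l * x * l⁻¹) = Subgroup.zpowers y := by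
  have hxP := mem_perpGroup B hd hxd
  have hyP := mem_perpGroup B hd hyd
  obtain ⟨q, hq⟩ := hK (Subgroup.zpowers (img hxP)) (Subgroup.zpowers (img hyP))
    (by rw [Nat.card_zpowers, order_img B hd hp hx hxP]) (by rw [Nat.card_zpowers, order_img B hd hp hy hyP])
  obtain ⟨⟨l, hl⟩, rfl⟩ := QuotientGroup.mk_surjective q
  refine ⟨l, commute_of_mem B hd hl, ?_⟩
  have hxp : (l * x * l⁻¹) ^ p = 1 := by rw [conj_pow, ← hx, pow_orderOf_eq_one, mul_one, mul_inv_cancel]
  have hm : l * x * l⁻¹ ∈ Subgroup.zpowers y := by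
    refine lift_mem B hd ((Fact.out : p.Prime).odd_of_ne_two hp) hyP (mul_mem (mul_mem hl hxP) (inv_mem hl))
      (hy ▸ pow_orderOf_eq_one y) hxp ?_
    rw [← hq, map_zpowers]
    exact Subgroup.mem_zpowers _
  refine Subgroup.eq_of_le_of_card_ge (Subgroup.zpowers_le.mpr hm) (le_of_eq ?_)
  rw [Nat.card_zpowers, Nat.card_zpowers, hy]
  exact ((MulEquiv.orderOf_eq (MulAut.conj l) x).trans hx).symm

end Cfsg.Agent.Grp.M23Local
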