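import Cfsg.Agent.Lib.Grp.M22Local.FiveConj
import Cfsg.Agent.Lib.Grp.M22Local.SevenNormal
import Cfsg.Agent.Lib.Block.FischerTypes.M22Counts

/-! What is used about the type M(22) one level down. -/

set_option autoImplicit false
set_option linter.style.haveILetI false
set_option linter.unusedSectionVars false

namespace Cfsg.Agent.Grp.M22Local

open Cfsg Cfsg.Agent.Spor.ThreeTrans Cfsg.Agent.Block.FischerTypes

variable {G : Type*} [Group G] [Finite G] {D : Set G}

theorem nor_zpowers {x y : G} (h : Subgroup.zpowers x = Subgroup.zpowers y) : nor x = nor y :=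
  congrArg (fun S : Subgroup G => Subgroup.normalizer (S : Set G)) h

theorem cent_zpowers {x y : G} (h : Subgroup.zpowers x = Subgroup.zpowers y) :
    Subgroup.centralizer ({x} : Set G) = Subgroup.centralizer ({y} : Set G) := by
  rw [← Subgroup.centralizer_closure {x}, ← Subgroup.centralizer_closure {y}, ← Subgroup.zpowers_eq_closure,
    ← Subgroup.zpowers_eq_closure, h]

variable (C : M22.Ctx D)
include C

theorem five_conj {X Y : Subgroup G} (hX : Nat.card ↥X = 5) (hY : Nat.card ↥Y = 5) :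
    ∃ g : G, X.map (MulAut.conj g).toMonoidHom = Y := by
  haveI : Fact (Nat.Prime 5) := ⟨by norm_num⟩
  have hN := M22.numbered_ctx C
  exact conj_all C hN five_sq (fun y hy => good_all C hN hy) hX hY

theorem five_below {y : G} (hy : orderOf y = 5) :
    (fixed D y).ncard = 10 ∧ Nat.card ↥(nor y) = 2400 ∧
      Nat.card ↥(Subgroup.centralizer ({y} : Set G)) = 600 ∧
      ∃ a b c g, a ∈ fixed D y ∧ b ∈ fixed D y ∧ c ∈ fixed D y ∧ g ∈ fixed D y ∧
        ¬ Commute b c ∧ ¬ Commute c g ∧ ¬ Commute g a ∧ Commute b g ∧ Commute b a ∧ Commute c a ∧ b ≠ g := by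
  have hN := M22.numbered_ctx C
  obtain ⟨d, hd, hdy⟩ := good_all C hN hy
  obtain ⟨x, b, c, e, F⟩ := five_at C hN hy hd hdy
  obtain ⟨g, u, P⟩ := F.exists_path C hN hd
  obtain ⟨ma, mb, mc⟩ := F.mem_fixed C hN hd
  rw [← fixed_zpowers (D := D) e, ← nor_zpowers e, ← cent_zpowers e]
  exact ⟨F.ten C hN hd, F.card_nor C hN hd, F.card_cent C hN hd, d, b, c, g, ma, mb, mc, P.hg, F.nc, P.gc,
    P.ga, P.gb.symm, F.hb.2.2.symm, F.hc.2.2.symm, fun k => P.ga (k ▸ F.hb.2.2.symm)⟩

theorem seven_below {y : G} (hy : orderOf y = 7) :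
    (fixed D y).ncard = 3 ∧ Nat.card ↥(nor y) = 252 ∧
      Nat.card ↥(Subgroup.centralizer ({y} : Set G)) ≤ 42 ∧
      ∃ a f, a ∈ fixed D y ∧ f ∈ fixed D y ∧ ¬ Commute a f := by
  classical
  haveI : Fact (Nat.Prime 7) := ⟨by norm_num⟩
  have hN := M22.numbered_ctx C
  obtain ⟨d, x, hd, e, S⟩ := seven_at C hN (X := Subgroup.zpowers y) (by rw [Nat.card_zpowers, hy])
  obtain ⟨f, hf, hA, -⟩ := S.apart_pair C hN hd
  rw [fixed_zpowers (D := D) e, nor_zpowers e, cent_zpowers e]
  have h3 : (fixed D x).ncard = 3 := by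
    rw [fixed_count C hN hd S.xa, S.perp0, Set.ncard_empty, hA]
  refine ⟨h3, ?_, ?_, d, f, ⟨hd, S.xa⟩, ⟨hf.1.1, hf.2⟩, fun k => hf.1.2 k.symm⟩
  · have k := card_orb (nor x) d
    rw [orb_nor C hN seven_sq hd S.ox S.xa, show fix (nor x) d = cen d ⊓ nor x from inf_comm _ _, S.cardN, h3] at k
    exact k.symm
  · have k := card_le_mul (Subgroup.centralizer ({x} : Set G)) d (S := fixed D x) fun g hg =>
      ⟨conj_mem C.set.cls g hd, comm_conj_fixed (Subgroup.mem_centralizer_singleton_iff.mp hg) S.xa⟩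
    rw [h3, show fix (Subgroup.centralizer ({x} : Set G)) d = fix (cen d) x from inf_comm _ _, S.cardC] at k
    exact k

end Cfsg.Agent.Grp.M22Local
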