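import Cfsg.Agent.Lib.Fus.SymPath

/-! The ten transpositions of five points. -/

set_option autoImplicit false
set_option maxRecDepth 100000

namespace Cfsg.Agent.Grp.M23Local

/-- The ten transpositions. -/
def e10 : Fin 10 → Equiv.Perm (Fin 5) :=
  ![Equiv.swap 0 1, Equiv.swap 1 2, Equiv.swap 2 3, Equiv.swap 3 4, Equiv.swap 0 2, Equiv.swap 0 3, Equiv.swap 0 4,
    Equiv.swap 1 3, Equiv.swap 1 4, Equiv.swap 2 4]

/-- The index of a conjugate. -/
def c10 (i j : Fin 10) : Fin 10 :=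
  ((List.finRange 10).find? fun l => e10 l == e10 i * e10 j * e10 i).getD 0

theorem e10_conj : ∀ i j, e10 (c10 i j) = e10 i * e10 j * e10 i := by decide +kernel

theorem e10_inj : Function.Injective e10 := by
  have : ∀ i j, e10 i = e10 j → i = j := by decide +kernel
  exact this

theorem e10_inv : ∀ i, (e10 i)⁻¹ = e10 i := by decide +kernel

theorem e10_swaps : ∀ a b : Fin 5, a ≠ b → ∃ i, e10 i = Equiv.swap a b := by decide +kernel

theorem e10_near : ∀ i, (Finset.univ.filter fun j => j ≠ i ∧ e10 i * e10 j = e10 j * e10 i).card = 3 := by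
  decide +kernel

theorem e10_moved : ∀ k : Fin 5, ∀ i, ∃ j, e10 j = Equiv.swap 0 k * e10 i * Equiv.swap 0 k ∧
    (e10 j k = k ↔ e10 i 0 = 0) := by decide +kernel

theorem six_closed : ∀ s ∈ (Finset.univ : Finset (Fin 10)).powersetCard 6, (∀ i ∈ s, ∀ j ∈ s, c10 i j ∈ s) →
    ∃ k : Fin 5, ∀ i, i ∈ s ↔ e10 i k = k := by decide +kernel

theorem count0 : (Finset.univ.filter fun i => ¬ e10 i 0 = 0).card = 4 ∧
    (Finset.univ.filter fun i => e10 i 0 = 0 ∧ ¬ e10 0 * e10 i = e10 i * e10 0).card = 3 ∧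
    (Finset.univ.filter fun i => e10 i 0 = 0 ∧ e10 0 * e10 i = e10 i * e10 0 ∧
      ¬ e10 1 * e10 i = e10 i * e10 1).card = 2 ∧
    (Finset.univ.filter fun i => e10 i 0 = 0 ∧ e10 0 * e10 i = e10 i * e10 0 ∧
      e10 1 * e10 i = e10 i * e10 1).card = 1 := by decide +kernel

theorem path_facts : (e10 0 0 ≠ 0 ∧ e10 1 0 = 0 ∧ e10 2 0 = 0 ∧ e10 3 0 = 0) ∧
    (¬ e10 0 * e10 1 = e10 1 * e10 0 ∧ ¬ e10 1 * e10 2 = e10 2 * e10 1 ∧ ¬ e10 2 * e10 3 = e10 3 * e10 2) ∧
      (e10 0 * e10 2 = e10 2 * e10 0 ∧ e10 0 * e10 3 = e10 3 * e10 0 ∧ e10 1 * e10 3 = e10 3 * e10 1) := by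
  decide +kernel

theorem swaps7 : (((Finset.univ : Finset (Fin 7 × Fin 7)).filter fun q => q.1 < q.2).image
      fun q => Equiv.swap q.1 q.2).card = 21 ∧
    ((Finset.univ : Finset (Fin 7 × Fin 7)).filter fun q => q.1 < q.2).card = 21 := by decide +kernel

theorem swaps5 : (((Finset.univ : Finset (Fin 5 × Fin 5)).filter fun q => q.1 < q.2).image
      fun q => Equiv.swap q.1 q.2).card = 10 ∧
    ((Finset.univ : Finset (Fin 5 × Fin 5)).filter fun q => q.1 < q.2).card = 10 := by decide +kernel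

end Cfsg.Agent.Grp.M23Local
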