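import Cfsg.Agent.Lib.Fus.SymPath
import Cfsg.Agent.Lib.Grp.M22Local.Common

/-! A path of members commuting with `x` and the splitting of the normaliser it gives. -/

set_option autoImplicit false
set_option linter.style.haveILetI false
set_option linter.unusedSectionVars false

namespace Cfsg.Agent.Grp.M23Local

open Cfsg Cfsg.Agent.Spor.ThreeTrans Cfsg.Agent.Grp.M22Local Cfsg.Agent.Fus
open scoped Nat

variable {G : Type*} [Group G] [Finite G] {D : Set G}

theorem adj_closure (m : ℕ) (σ : Equiv.Perm (Fin (m + 1))) :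
    σ ∈ Subgroup.closure (SymPath.adj m '' Set.Iio m) := by
  have h1 : Submonoid.closure (Set.range fun i : Fin m => Equiv.swap i.castSucc i.succ) ≤
      (Subgroup.closure (SymPath.adj m '' Set.Iio m)).toSubmonoid := by
    refine Submonoid.closure_le.2 ?_
    rintro _ ⟨i, rfl⟩
    exact Subgroup.subset_closure ⟨i, i.2, by rw [SymPath.adj, dif_pos i.2]⟩
  rw [Equiv.Perm.mclosure_swap_castSucc_succ] at h1
  exact h1 (Submonoid.mem_top σ)

/-- Only the identity commutes with all adjacent transpositions. -/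
theorem adj_centre {m : ℕ} (hm : 2 ≤ m) {σ : Equiv.Perm (Fin (m + 1))}
    (h : ∀ i < m, Commute σ (SymPath.adj m i)) : σ = 1 := by
  have hall : ∀ τ, Commute σ τ := fun τ => by
    have hle : Subgroup.closure (SymPath.adj m '' Set.Iio m) ≤ Subgroup.centralizer ({σ} : Set _) := by
      rw [Subgroup.closure_le]
      rintro _ ⟨i, hi, rfl⟩
      exact Subgroup.mem_centralizer_singleton_iff.mpr (h i hi).symm.eq
    exact (Subgroup.mem_centralizer_singleton_iff.mp (hle (adj_closure m τ)) : τ * σ = σ * τ).symm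
  refine Equiv.ext fun i => ?_
  show σ i = i
  by_contra hne
  obtain ⟨k, hk1, hk2⟩ : ∃ k, k ≠ i ∧ k ≠ σ i := by
    obtain ⟨k, -, hk⟩ := Finset.exists_mem_notMem_of_card_lt_card (s := ({i, σ i} : Finset (Fin (m + 1))))
      (t := Finset.univ) (by rw [Finset.card_univ, Fintype.card_fin]; exact Finset.card_le_two.trans_lt (by omega))
    simp only [Finset.mem_insert, Finset.mem_singleton, not_or] at hk
    exact ⟨k, hk.1, hk.2⟩
  have e := Equiv.congr_fun (hall (Equiv.swap i k)).eq i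
  simp only [Equiv.Perm.mul_apply, Equiv.swap_apply_left] at e
  rw [Equiv.swap_apply_of_ne_of_ne hne hk2.symm] at e
  exact hk1 (σ.injective e)

/-- The map of a path into a group is injective. -/
theorem path_hom {m : ℕ} (hm : 4 ≤ m) {s : ℕ → G} (h : SymPath.Path m s) (hne : s 0 ≠ s 1) :
    ∃ f : Equiv.Perm (Fin (m + 1)) →* G, Function.Injective f ∧ ∀ i < m, f (SymPath.adj m i) = s i := by
  obtain ⟨f, -, hf⟩ := SymPath.exists_hom h
  refine ⟨f, ?_, hf⟩
  rw [← MonoidHom.ker_eq_bot_iff]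
  by_contra hbot
  haveI : Nontrivial f.ker := (Subgroup.nontrivial_iff_ne_bot _).2 hbot
  have hA := Equiv.Perm.alternatingGroup_le_of_normal (α := Fin (m + 1))
    (by rw [Nat.card_fin]; omega) (N := f.ker) inferInstance
  have hmem : SymPath.adj m 0 * SymPath.adj m 1 ∈ alternatingGroup (Fin (m + 1)) := by
    rw [Equiv.Perm.mem_alternatingGroup, map_mul, SymPath.adj, dif_pos (by omega), SymPath.adj, dif_pos (by omega),
      Equiv.Perm.sign_swap (Fin.castSucc_lt_succ).ne, Equiv.Perm.sign_swap (Fin.castSucc_lt_succ).ne]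
    decide
  have k := MonoidHom.mem_ker.mp (hA hmem)
  rw [map_mul, hf 0 (by omega), hf 1 (by omega)] at k
  refine hne ?_
  rw [eq_inv_of_mul_eq_one_left k, inv_eq_of_mul_eq_one_right (h.sq 1 (by omega))]

/-- The splitting of the normaliser. -/
theorem split {p : ℕ} {x : G} (hx : orderOf x = p) (h : IsThreeTranspositionClass D) {m : ℕ} (hm : 2 ≤ m)
    (f : Equiv.Perm (Fin (m + 1)) →* G) (hinj : Function.Injective f)
    (hgen : ∀ i < m, f (SymPath.adj m i) ∈ fixed D x)
    (hcount : (fixed D x).ncard ≤ ((Finset.univ : Finset (Fin (m + 1) × Fin (m + 1))).filter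
      fun q => q.1 < q.2).card)
    (hswaps : (((Finset.univ : Finset (Fin (m + 1) × Fin (m + 1))).filter fun q => q.1 < q.2).image
      fun q => Equiv.swap q.1 q.2).card = ((Finset.univ : Finset (Fin (m + 1) × Fin (m + 1))).filter
      fun q => q.1 < q.2).card)
    (F : Subgroup G) (hF : F ≤ nor x) (hFc : ∀ g ∈ F, ∀ i < m, Commute g (f (SymPath.adj m i))) (hxF : x ∈ F)
    (hN : Nat.card ↥(nor x) ≤ Nat.card ↥F * (m + 1)!)
    (hC : Nat.card ↥(Subgroup.centralizer ({x} : Set G)) ≤ p * (m + 1)!) :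
    ∃ H : Subgroup G, H = Subgroup.closure (fixed D x) ∧ Nonempty (↥H ≃* Equiv.Perm (Fin (m + 1))) ∧
      Nat.card ↥F * (m + 1)! = Nat.card ↥(nor x) ∧ F ⊓ Subgroup.centralizer ({x} : Set G) = Subgroup.zpowers x ∧
      F ⊓ H = ⊥ ∧ (∀ g ∈ F, ∀ y ∈ H, g * y = y * g) ∧ F ⊔ H = nor x := by
  classical
  set H := f.range with hHdef
  have hall : ∀ (Q : Subgroup G), (∀ i < m, f (SymPath.adj m i) ∈ Q) → H ≤ Q := by
    rintro Q hQ _ ⟨σ, rfl⟩
    have : Subgroup.closure (SymPath.adj m '' Set.Iio m) ≤ Q.comap f :=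
      (Subgroup.closure_le _).mpr (by rintro _ ⟨i, hi, rfl⟩; exact hQ i hi)
    exact this (adj_closure m σ)
  have hHcent : H ≤ Subgroup.centralizer ({x} : Set G) :=
    hall _ fun i hi => Subgroup.mem_centralizer_singleton_iff.mpr (hgen i hi).2.eq
  have hHeq : H = Subgroup.closure (fixed D x) := by
    refine le_antisymm (hall _ fun i hi => Subgroup.subset_closure (hgen i hi)) ((Subgroup.closure_le _).mpr ?_)
    set T := ((Finset.univ : Finset (Fin (m + 1) × Fin (m + 1))).filter fun q => q.1 < q.2).image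
      fun q => Equiv.swap q.1 q.2 with hT
    have hsub : (↑(T.image f) : Set G) ⊆ fixed D x := by
      intro y hy
      rw [Finset.mem_coe, Finset.mem_image] at hy
      obtain ⟨σ, hσ, rfl⟩ := hy
      rw [hT, Finset.mem_image] at hσ
      obtain ⟨⟨i, j⟩, hij, rfl⟩ := hσ
      obtain ⟨τ, hτ⟩ := isConj_iff.mp (Equiv.Perm.isConj_swap
        ((Fin.castSucc_lt_succ (i := (⟨0, by omega⟩ : Fin m))).ne) (Finset.mem_filter.mp hij).2.ne)
      have h0 := hgen 0 (by omega)
      rw [SymPath.adj, dif_pos (show 0 < m by omega)] at h0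
      rw [← hτ, map_mul, map_mul, map_inv]
      exact ⟨conj_mem h _ h0.1, comm_conj_fixed (Subgroup.mem_centralizer_singleton_iff.mp (hHcent ⟨τ, rfl⟩)) h0.2⟩
    have heq := Set.eq_of_subset_of_ncard_le hsub (by
      rw [Set.ncard_coe_finset, Finset.card_image_of_injective _ hinj, hT, hswaps]; exact hcount) (Set.toFinite _)
    rw [← heq]
    intro y hy
    rw [Finset.mem_coe, Finset.mem_image] at hy
    obtain ⟨σ, -, rfl⟩ := hy
    exact ⟨σ, rfl⟩
  have hcardH : Nat.card ↥H = (m + 1)! := by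
    rw [hHdef, ← Nat.card_congr (MonoidHom.ofInjective hinj).toEquiv, Nat.card_perm, Nat.card_fin]
  have hcomm : ∀ g ∈ F, ∀ y ∈ H, g * y = y * g := fun g hg y hy =>
    (Subgroup.mem_centralizer_singleton_iff.mp ((hall (Subgroup.centralizer ({g} : Set G)) fun i hi =>
      Subgroup.mem_centralizer_singleton_iff.mpr (hFc g hg i hi).symm.eq) hy)).symm
  have htriv : F ⊓ H = ⊥ := by
    rw [Subgroup.eq_bot_iff_forall]
    rintro y ⟨hyF, σ, rfl⟩
    rw [adj_centre hm (σ := σ) fun i hi => hinj (by rw [map_mul, map_mul]; exact (hFc _ hyF i hi).eq), map_one]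
  have hdis : Disjoint F H := disjoint_iff.mpr htriv
  have hprod : ∀ (A Q : Subgroup G), A ≤ F → A ≤ Q → H ≤ Q → Nat.card ↥A * (m + 1)! ≤ Nat.card ↥Q := by
    intro A Q hAF hAQ hHQ
    rw [← hcardH, ← Nat.card_prod]
    refine Nat.card_le_card_of_injective (fun q : ↥A × ↥H => (⟨q.1 * q.2, mul_mem (hAQ q.1.2) (hHQ q.2.2)⟩ : ↥Q)) ?_
    exact fun q r e => Subgroup.mul_injective_of_disjoint (hdis.mono_left hAF) (congrArg Subtype.val e)
  have hHnor : H ≤ nor x := fun g hg => nor_of_commute (Subgroup.mem_centralizer_singleton_iff.mp (hHcent hg))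
  have hcard := le_antisymm (hprod F (nor x) le_rfl hF hHnor) hN
  have hsup : F ⊔ H = nor x :=
    Subgroup.eq_of_le_of_card_ge (sup_le hF hHnor) (hcard ▸ hprod F (F ⊔ H) le_rfl le_sup_left le_sup_right)
  refine ⟨H, hHeq, ⟨(MonoidHom.ofInjective hinj).symm⟩, hcard, ?_, htriv, hcomm, hsup⟩
  refine (Subgroup.eq_of_le_of_card_ge (Subgroup.zpowers_le.mpr (Subgroup.mem_inf.mpr ⟨hxF,
    Subgroup.mem_centralizer_singleton_iff.mpr rfl⟩)) ?_).symm
  rw [Nat.card_zpowers, hx]
  exact Nat.le_of_mul_le_mul_right ((hprod _ _ inf_le_left inf_le_right hHcent).trans hC) (Nat.factorial_pos _)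

end Cfsg.Agent.Grp.M23Local
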