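import Cfsg.Agent.Lib.Grp.M23Local.Moves
import Cfsg.Agent.Lib.Grp.M23Local.Below
import Cfsg.Agent.Lib.Grp.M23Local.PathHom
import Cfsg.Agent.Lib.Grp.M23Local.FiveTable
import Cfsg.Agent.Lib.Spor.ThreeTransFiveHom

/-! The normaliser of a subgroup of order five in a group of type M(23). -/

set_option autoImplicit false
set_option linter.style.haveILetI false
set_option linter.unusedSectionVars false

namespace Cfsg.Agent.Grp.M23Local

open Cfsg Cfsg.Agent.Spor.ThreeTrans Cfsg.Agent.Block.FischerTypes Cfsg.Agent.Grp.M22Local Cfsg.Agent.Fus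

variable {G : Type*} [Group G] [Finite G] {D : Set G}

theorem commute_map {G H : Type*} [Group G] [Group H] {f : G →* H} (hf : Function.Injective f) {a b : G} :
    Commute (f a) (f b) ↔ a * b = b * a :=
  ⟨fun k => hf (by rw [map_mul, map_mul]; exact k.eq), fun k => by
    show f a * f b = f b * f a
    rw [← map_mul, ← map_mul, k]⟩

variable (B : M23.Base D)
include B

theorem five_quot : QuotConj D 5 := fun d hd _ _ hX hY => five_conj (B.ctx d hd) hX hY

variable {d x : G} (hd : d ∈ D) (hx : orderOf x = 5) (hxd : Commute d x)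
include hd hx hxd

theorem five_local : (fixedPerp D x d).ncard = 10 ∧ Nat.card ↥(cen d ⊓ nor x) = 4800 ∧
    Nat.card ↥(fix (cen d) x) ≤ 1200 := by
  haveI : Fact (Nat.Prime 5) := ⟨by norm_num⟩
  have hm := mem_perpGroup B hd hxd.symm
  obtain ⟨h1, h2, h3, -⟩ := five_below (B.ctx d hd) (order_img B hd (by norm_num : (5 : ℕ) ≠ 2) hx hm)
  refine ⟨by rw [fixedPerp_card B hd (by norm_num : (5 : ℕ) ≠ 2) hx hm, h1],
    by rw [card_nor_cen B hd (by norm_num : (5 : ℕ) ≠ 2) hx hm, h2],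
    (card_cent_cen B hd hm).trans (by rw [h3])⟩

theorem five_perp_hom : ∃ φ : Equiv.Perm (Fin 5) →* G, Function.Injective φ ∧
    fixedPerp D x d = Set.range (fun i => φ (e10 i)) ∧ ∀ σ, Commute (φ σ) d ∧ Commute (φ σ) x := by
  classical
  haveI : Fact (Nat.Prime 5) := ⟨by norm_num⟩
  have h := B.set.cls
  have hm := mem_perpGroup B hd hxd.symm
  obtain ⟨-, -, -, qa, qb, qc, qg, ma, mb, mc, mg, nbc, ncg, nga, cbg, cba, cca, hne⟩ :=
    five_below (B.ctx d hd) (order_img B hd (by norm_num : (5 : ℕ) ≠ 2) hx hm)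
  obtain ⟨a, ha, hax, rfl⟩ := lift_fixed B hd hm ma
  obtain ⟨b, hb, hbx, rfl⟩ := lift_fixed B hd hm mb
  obtain ⟨c, hc, hcx, rfl⟩ := lift_fixed B hd hm mc
  obtain ⟨g, hg, hgx, rfl⟩ := lift_fixed B hd hm mg
  have down := fun {u v : G} (hu : u ∈ perp D d) (hv : v ∈ perp D d) (k : Commute (pr D d u hu) (pr D d v hv)) =>
    commute_of_pr h B.set.tf hd hu hv k
  obtain ⟨φ, hinj, hφ0, hφ1, hφ2, hφ3⟩ := Spor.FiveHom.exists_hom_s5 h.1 hb.1 hc.1 hg.1 ha.1
    (fun k => nbc (commute_pr hb hc k)) (fun k => ncg (commute_pr hc hg k)) (fun k => nga (commute_pr hg ha k))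
    (down hb hg cbg) (down hb ha cba) (down hc ha cca) (fun e => hne (by subst e; rfl))
  have hall : ∀ σ, Commute (φ σ) d ∧ Commute (φ σ) x := by
    intro σ
    have hgens : σ ∈ Subgroup.closure (SymPath.adj 4 '' Set.Iio 4) := adj_closure 4 σ
    have hle : Subgroup.closure (SymPath.adj 4 '' Set.Iio 4) ≤
        (Subgroup.centralizer ({d} : Set G) ⊓ Subgroup.centralizer ({x} : Set G)).comap φ := by
      rw [Subgroup.closure_le]
      rintro _ ⟨i, hi, rfl⟩
      have key : ∀ {u}, u ∈ perp D d → Commute u x →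
          u ∈ Subgroup.centralizer ({d} : Set G) ⊓ Subgroup.centralizer ({x} : Set G) := fun hu hux =>
        ⟨Subgroup.mem_centralizer_singleton_iff.mpr hu.2.2.symm.eq, Subgroup.mem_centralizer_singleton_iff.mpr hux.eq⟩
      rcases (show i = 0 ∨ i = 1 ∨ i = 2 ∨ i = 3 by have : i < 4 := hi; omega) with rfl | rfl | rfl | rfl
      · rw [SetLike.mem_coe, Subgroup.mem_comap, show SymPath.adj 4 0 = Equiv.swap 0 1 by decide +kernel, hφ0]; exact key hb hbx
      · rw [SetLike.mem_coe, Subgroup.mem_comap, show SymPath.adj 4 1 = Equiv.swap 1 2 by decide +kernel, hφ1]; exact key hc hcx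
      · rw [SetLike.mem_coe, Subgroup.mem_comap, show SymPath.adj 4 2 = Equiv.swap 2 3 by decide +kernel, hφ2]; exact key hg hgx
      · rw [SetLike.mem_coe, Subgroup.mem_comap, show SymPath.adj 4 3 = Equiv.swap 3 4 by decide +kernel, hφ3]; exact key ha hax
    obtain ⟨k1, k2⟩ := Subgroup.mem_inf.mp (hle hgens)
    exact ⟨Subgroup.mem_centralizer_singleton_iff.mp k1, Subgroup.mem_centralizer_singleton_iff.mp k2⟩
  refine ⟨φ, hinj, (Set.eq_of_subset_of_ncard_le ?_ ?_ (Set.toFinite _)).symm, hall⟩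
  · rintro _ ⟨i, rfl⟩
    obtain ⟨p, q, hpq, hi⟩ : ∃ p q, p ≠ q ∧ e10 i = Equiv.swap p q := by
      revert i; decide +kernel
    obtain ⟨τ, hτ⟩ := isConj_iff.mp (Equiv.Perm.isConj_swap (by decide : (0 : Fin 5) ≠ 1) hpq)
    show φ (e10 i) ∈ fixedPerp D x d
    rw [hi, ← hτ, map_mul, map_mul, map_inv, hφ0]
    exact ⟨perp_conj' h (hall τ).1 hb, comm_conj_fixed (hall τ).2 hbx⟩
  · rw [(five_local B hd hx hxd).1, Set.ncard_range_of_injective (show Function.Injective fun i => φ (e10 i) from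
      hinj.comp e10_inj), Nat.card_fin]

theorem five_ten {p : G} (hpd : p ∈ D) (hpx : Commute p x) : (fixedPerp D x p).ncard = 10 := by
  haveI : Fact (Nat.Prime 5) := ⟨by norm_num⟩
  exact (five_local B hpd hx hpx).1

theorem five_apart : (fixedApart D x d).ncard = 10 ∧ ∀ e ∈ fixedApart D x d,
    {p ∈ fixedPerp D x d | Commute e p}.ncard = 6 := by
  classical
  haveI : Fact (Nat.Prime 5) := ⟨by norm_num⟩
  have h := B.set.cls
  obtain ⟨φ, hinj, hP, hall⟩ := five_perp_hom B hd hx hxd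
  have h10 := (five_local B hd hx hxd).1
  -- each member below commutes with six members apart
  have six : ∀ p ∈ fixedPerp D x d, {e ∈ fixedApart D x d | Commute p e}.ncard = 6 := by
    intro p hp
    have e : fixedPerp D x p = insert d ({u ∈ fixedPerp D x d | u ≠ p ∧ Commute p u}) ∪
        {e ∈ fixedApart D x d | Commute p e} := by
      ext u
      constructor
      · intro hu
        by_cases k : Commute u d
        · by_cases he : u = d
          · exact Or.inl (Or.inl he)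
          · exact Or.inl (Or.inr ⟨⟨⟨hu.1.1, he, k.symm⟩, hu.2⟩, hu.1.2.1, hu.1.2.2⟩)
        · exact Or.inr ⟨⟨⟨hu.1.1, k⟩, hu.2⟩, hu.1.2.2⟩
      · rintro ((rfl | ⟨hu, hne, hc⟩) | ⟨hu, hc⟩)
        · exact ⟨M22.perp_symm hd hp.1, hxd⟩
        · exact ⟨⟨hu.1.1, hne, hc⟩, hu.2⟩
        · exact ⟨⟨hu.1.1, fun e => hu.1.2 (e ▸ hp.1.2.2.symm), hc⟩, hu.2⟩
    have hcount := five_ten B hd hx hxd hp.1.1 hp.2
    obtain ⟨i, rfl⟩ : ∃ i, φ (e10 i) = p := by rw [hP] at hp; exact hp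
    have e3 : {u ∈ fixedPerp D x d | u ≠ φ (e10 i) ∧ Commute (φ (e10 i)) u} =
        ↑((Finset.univ.filter fun j => j ≠ i ∧ e10 i * e10 j = e10 j * e10 i).image fun j => φ (e10 j)) := by
      rw [hP]
      ext u
      simp only [Set.mem_setOf_eq, Set.mem_range, Finset.coe_image, Finset.coe_filter, Set.mem_image,
        Finset.mem_univ, true_and]
      constructor
      · rintro ⟨⟨j, rfl⟩, hne, hc⟩
        exact ⟨j, ⟨fun k => hne (by rw [k]), (commute_map hinj).mp hc⟩, rfl⟩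
      · rintro ⟨j, ⟨hne, hc⟩, rfl⟩
        exact ⟨⟨j, rfl⟩, fun k => hne (e10_inj (hinj k)), (commute_map hinj).mpr hc⟩
    rw [e, Set.ncard_union_eq (Set.disjoint_left.mpr ?_) (Set.toFinite _) (Set.toFinite _),
      Set.ncard_insert_of_notMem (fun k => k.1.1.2.1 rfl) (Set.toFinite _), e3, Set.ncard_coe_finset,
      Finset.card_image_of_injective _ (show Function.Injective fun j => φ (e10 j) from hinj.comp e10_inj),
      e10_near] at hcount
    · omega
    · rintro u (rfl | hu) ⟨hu', -⟩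
      exacts [hu'.1.2 (Commute.refl _), hu'.1.2 hu.1.1.2.2.symm]
  obtain ⟨p₀, hp₀⟩ : (fixedPerp D x d).Nonempty := Set.nonempty_of_ncard_ne_zero (by omega)
  obtain ⟨e₀, he₀, -⟩ : {e ∈ fixedApart D x d | Commute p₀ e}.Nonempty :=
    Set.nonempty_of_ncard_ne_zero (by rw [six p₀ hp₀]; omega)
  obtain ⟨ho, n, s, hn, hns, hAs⟩ := apart_numbers B (p := 5) (by norm_num) hd hx hxd he₀
  rw [(five_local B hd hx hxd).2.1] at hAs
  have hA10 : (fixedApart D x d).ncard = 10 := by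
    have hnor := card_nor B (p := 5) (by norm_num) (five_quot B) hd hx hxd
    rw [fixed_count B hd hxd, h10, (five_local B hd hx hxd).2.1] at hnor
    have hdvd := Subgroup.card_subgroup_dvd_card (nor x)
    rw [hnor, card_G B ⟨d, hd⟩] at hdvd
    have key : ∀ A ∈ Nat.divisors 4800, (4585351680 / (4800 / A)) % 5 = 1 → 4585351680 % (4800 / A) = 0 →
        (31671 * (2 * 64561751654400)) % ((1 + 10 + A) * 4800) = 0 → A = 10 := by decide +kernel
    have hA : (fixedApart D x d).ncard ∣ 4800 := ⟨s, hAs.symm⟩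
    have hs : 4800 / (fixedApart D x d).ncard = s := by
      rw [← hAs, Nat.mul_div_cancel_left _ ((Set.ncard_pos (Set.toFinite _)).mpr ⟨e₀, he₀⟩)]
    have hspos : 0 < s := by
      rcases Nat.eq_zero_or_pos s with k | k
      · rw [k] at hAs; omega
      · exact k
    refine key _ (Nat.mem_divisors.mpr ⟨hA, by norm_num⟩) ?_ ?_ (Nat.mod_eq_zero_of_dvd hdvd)
    · rw [hs, ← hns, Nat.mul_div_cancel _ hspos, hn]
    · rw [hs, ← hns, Nat.mul_mod_left]
  refine ⟨hA10, fun e he => ?_⟩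
  have const : ∀ e' ∈ fixedApart D x d, {p ∈ fixedPerp D x d | Commute e' p}.ncard =
      {p ∈ fixedPerp D x d | Commute e p}.ncard := by
    intro e' he'
    obtain ⟨k, hk, rfl⟩ := move_apart B (p := 5) (by norm_num) hd hx hxd he he'
    have hkd : Commute k d := mem_cen.mp hk.1
    have e2 : {p ∈ fixedPerp D x d | Commute (k * e * k⁻¹) p} =
        (fun u => k * u * k⁻¹) '' {p ∈ fixedPerp D x d | Commute e p} := by
      ext u
      constructor
      · rintro ⟨hu, hc⟩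
        refine ⟨k⁻¹ * u * k, ⟨⟨by simpa using perp_conj' h hkd.inv_left hu.1, nor_le_of_commute hk.2 hu.2⟩, ?_⟩,
          by simp [mul_assoc]⟩
        rw [← commute_conj_iff k]
        simpa [mul_assoc] using hc
      · rintro ⟨v, ⟨hv, hc⟩, rfl⟩
        exact ⟨⟨perp_conj' h hkd hv.1, comm_nor hk.2 hv.2⟩, (commute_conj_iff k e v).mpr hc⟩
    rw [e2, Set.ncard_image_of_injective _ fun u v q => mul_left_cancel (mul_right_cancel q)]
  have := double_count_const (A := fixedPerp D x d) (B := fixedApart D x d) six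
    (l := {p ∈ fixedPerp D x d | Commute e p}.ncard) fun b hb => by
      rw [← const b hb]
      congr 1
      exact Set.ext fun u => and_congr_right fun _ => ⟨Commute.symm, Commute.symm⟩
  rw [h10, hA10] at this
  omega

theorem five_member : ∃ (φ : Equiv.Perm (Fin 5) →* G) (e : G), Function.Injective φ ∧
    fixedPerp D x d = Set.range (fun i => φ (e10 i)) ∧ (∀ σ, Commute (φ σ) d ∧ Commute (φ σ) x) ∧
    e ∈ fixedApart D x d ∧ ∀ i, Commute e (φ (e10 i)) ↔ e10 i 0 = 0 := by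
  classical
  have h := B.set.cls
  obtain ⟨φ, hinj, hP, hall⟩ := five_perp_hom B hd hx hxd
  obtain ⟨hA, hsix⟩ := five_apart B hd hx hxd
  obtain ⟨e, he⟩ := Set.nonempty_of_ncard_ne_zero (s := fixedApart D x d) (by omega)
  set s := (Finset.univ : Finset (Fin 10)).filter fun i => Commute e (φ (e10 i)) with hs
  have hs6 : s.card = 6 := by
    rw [← hsix e he, hP, ← Finset.card_image_of_injective s (hinj.comp e10_inj), ← Set.ncard_coe_finset]
    congr 1
    ext u
    simp only [hs, Finset.coe_image, Finset.coe_filter, Finset.mem_univ, true_and, Set.mem_image,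
      Set.mem_setOf_eq, Set.mem_range, Function.comp_apply]
    constructor
    · rintro ⟨i, hi, rfl⟩; exact ⟨⟨i, rfl⟩, hi⟩
    · rintro ⟨⟨i, rfl⟩, hi⟩; exact ⟨i, hi, rfl⟩
  obtain ⟨k, hk⟩ := six_closed s (Finset.mem_powersetCard.mpr ⟨Finset.subset_univ _, hs6⟩) fun i hi j hj => by
    rw [hs, Finset.mem_filter] at hi hj ⊢
    refine ⟨Finset.mem_univ _, ?_⟩
    rw [e10_conj, map_mul, map_mul]
    exact (hi.2.mul_right hj.2).mul_right hi.2
  set t := φ (Equiv.swap 0 k) with ht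
  refine ⟨φ, t * e * t⁻¹, hinj, hP, hall, ⟨apart_conj h (hall _).1 he.1, comm_conj_fixed (hall _).2 he.2⟩, fun i => ?_⟩
  obtain ⟨j, hj, hjk⟩ := e10_moved k i
  have e1 : φ (e10 i) = t * φ (e10 j) * t⁻¹ := by
    rw [hj, ht, ← map_inv, ← map_mul, ← map_mul, Equiv.swap_inv]
    congr 1
    simp [mul_assoc]
  rw [e1, commute_conj_iff, ← hjk, ← hk j, hs, Finset.mem_filter]
  exact ⟨fun q => ⟨Finset.mem_univ _, q⟩, fun q => q.2⟩

theorem five_split : ∃ F H : Subgroup G, H = Subgroup.closure (fixed D x) ∧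
    Nonempty (↥H ≃* Equiv.Perm (Fin 7)) ∧ Nat.card ↥F = 20 ∧ x ∈ F ∧
    F ⊓ Subgroup.centralizer ({x} : Set G) = Subgroup.zpowers x ∧ F ⊓ H = ⊥ ∧
    (∀ g ∈ F, ∀ y ∈ H, g * y = y * g) ∧ F ⊔ H = nor x := by
  classical
  haveI : Fact (Nat.Prime 5) := ⟨by norm_num⟩
  have h := B.set.cls
  obtain ⟨h10, hN0, hC0⟩ := five_local B hd hx hxd
  obtain ⟨hA, -⟩ := five_apart B hd hx hxd
  obtain ⟨φ, e, hinj, hP, hall, he, hcom⟩ := five_member B hd hx hxd
  have hmemP : ∀ i, φ (e10 i) ∈ fixedPerp D x d := fun i => by rw [hP]; exact ⟨i, rfl⟩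
  have h21 : (fixed D x).ncard = 21 := by rw [fixed_count B hd hxd, h10, hA]
  have hnor : Nat.card ↥(nor x) = 21 * 4800 := by
    rw [card_nor B (p := 5) (by norm_num) (five_quot B) hd hx hxd, h21, hN0]
  have hcent : Nat.card ↥(Subgroup.centralizer ({x} : Set G)) ≤ 21 * 1200 := by
    have k := card_le_mul (Subgroup.centralizer ({x} : Set G)) d (S := fixed D x) fun g hg =>
      ⟨conj_mem h g hd, comm_conj_fixed (Subgroup.mem_centralizer_singleton_iff.mp hg) hxd⟩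
    rw [h21, show fix (Subgroup.centralizer ({x} : Set G)) d = fix (cen d) x from inf_comm _ _] at k
    exact k.trans (Nat.mul_le_mul_left _ hC0)
  -- the path
  obtain ⟨⟨z0, z1, z2, z3⟩, ⟨n01, n12, n23⟩, ⟨k02, k03, k13⟩⟩ := path_facts
  let s : ℕ → G := fun i => match i with
    | 0 => d
    | 1 => e
    | n + 2 => φ (e10 (Fin.ofNat 10 n))
  have hpath : SymPath.Path 6 s := by
    refine ⟨fun i hi => ?_, fun i j hij hj => ?_, fun i hi => ?_⟩
    · interval_cases i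
      exacts [mul_self h.1 hd, mul_self h.1 he.1.1, mul_self h.1 (hmemP 0).1.1, mul_self h.1 (hmemP 1).1.1,
        mul_self h.1 (hmemP 2).1.1, mul_self h.1 (hmemP 3).1.1]
    · have hi2 : i < j - 1 := by omega
      interval_cases j <;> interval_cases i
      exacts [(hmemP 0).1.2.2.eq, (hmemP 1).1.2.2.eq, ((hcom 1).mpr z1).eq, (hmemP 2).1.2.2.eq, ((hcom 2).mpr z2).eq,
        ((commute_map hinj).mpr k02).eq, (hmemP 3).1.2.2.eq, ((hcom 3).mpr z3).eq, ((commute_map hinj).mpr k03).eq,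
        ((commute_map hinj).mpr k13).eq]
    · have hi5 : i < 5 := by omega
      interval_cases i
      exacts [braid h.1 hd he.1.1 (fun k => he.1.2 k.symm),
        braid h.1 he.1.1 (hmemP 0).1.1 (fun k => z0 ((hcom 0).mp k)),
        braid h.1 (hmemP 0).1.1 (hmemP 1).1.1 (fun k => n01 ((commute_map hinj).mp k)),
        braid h.1 (hmemP 1).1.1 (hmemP 2).1.1 (fun k => n12 ((commute_map hinj).mp k)),
        braid h.1 (hmemP 2).1.1 (hmemP 3).1.1 (fun k => n23 ((commute_map hinj).mp k))]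
  obtain ⟨ψ, hψ, hψs⟩ := path_hom (by norm_num) hpath (show d ≠ e from fun k => he.1.2 (k ▸ Commute.refl d))
  -- the stabiliser of the path
  set K0 := fix (cen d ⊓ nor x) e with hK0
  set K1 := fix K0 (φ (e10 0)) with hK1
  set K2 := fix K1 (φ (e10 1)) with hK2
  set K3 := fix K2 (φ (e10 2)) with hK3
  set F := fix K3 (φ (e10 3)) with hFdef
  have img : ∀ g ∈ cen d ⊓ nor x, ∀ i, ∃ j, g * φ (e10 i) * g⁻¹ = φ (e10 j) := by
    intro g hg i
    have k : g * φ (e10 i) * g⁻¹ ∈ fixedPerp D x d :=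
      ⟨perp_conj' h (mem_cen.mp hg.1) (hmemP i).1, comm_nor hg.2 (hmemP i).2⟩
    rw [hP] at k
    obtain ⟨j, hj⟩ := k
    exact ⟨j, hj.symm⟩
  have keep : ∀ {g w : G}, Commute g w → ∀ {i j : Fin 10}, g * φ (e10 i) * g⁻¹ = φ (e10 j) →
      (Commute w (φ (e10 j)) ↔ Commute w (φ (e10 i))) := by
    intro g w hgw i j e'
    rw [← e', ← commute_conj_iff g w (φ (e10 i)), hgw.eq, mul_inv_cancel_right]
  have bound : ∀ (K : Subgroup G) (P : Fin 10 → Prop) [DecidablePred P] (i : Fin 10), K ≤ cen d ⊓ nor x →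
      (∀ g ∈ K, ∀ j, g * φ (e10 i) * g⁻¹ = φ (e10 j) → P j) →
        Nat.card ↥K ≤ (Finset.univ.filter P).card * Nat.card ↥(fix K (φ (e10 i))) := by
    intro K P _ i hK hgood
    have k := card_le_mul K (φ (e10 i)) (S := ↑((Finset.univ.filter P).image fun j => φ (e10 j))) fun g hg => by
      obtain ⟨j, hj⟩ := img g (hK hg) i
      rw [hj, Finset.mem_coe, Finset.mem_image]
      exact ⟨j, Finset.mem_filter.mpr ⟨Finset.mem_univ _, hgood g hg j hj⟩, rfl⟩
    rwa [Set.ncard_coe_finset, Finset.card_image_of_injective _ (show Function.Injective fun j => φ (e10 j) from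
      hinj.comp e10_inj)] at k
  obtain ⟨c4, c3, c2, c1⟩ := count0
  have K0le : K0 ≤ cen d ⊓ nor x := inf_le_left
  have K1le : K1 ≤ cen d ⊓ nor x := inf_le_left.trans K0le
  have K2le : K2 ≤ cen d ⊓ nor x := inf_le_left.trans K1le
  have K3le : K3 ≤ cen d ⊓ nor x := inf_le_left.trans K2le
  have eK : ∀ {g}, g ∈ K0 → Commute g e := fun hg => (mem_fix.mp hg).2
  have b0 : Nat.card ↥(cen d ⊓ nor x) = 10 * Nat.card ↥K0 := by
    obtain ⟨ho, -⟩ := apart_numbers B (p := 5) (by norm_num) hd hx hxd he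
    rw [← card_orb (cen d ⊓ nor x) e, ho, hA]
  have b1 : Nat.card ↥K0 ≤ 4 * Nat.card ↥K1 := c4 ▸ bound K0 _ 0 K0le fun g hg j hj k =>
    z0 ((hcom 0).mp ((keep (eK hg) hj).mp ((hcom j).mpr k)))
  have b2 : Nat.card ↥K1 ≤ 3 * Nat.card ↥K2 := c3 ▸ bound K1 _ 1 K1le fun g hg j hj => by
    obtain ⟨hg0, hg'⟩ := mem_fix.mp hg
    exact ⟨(hcom j).mp ((keep (eK hg0) hj).mpr ((hcom 1).mpr z1)),
      fun k => n01 ((commute_map hinj).mp ((keep hg' hj).mp ((commute_map hinj).mpr k)))⟩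
  have b3 : Nat.card ↥K2 ≤ 2 * Nat.card ↥K3 := c2 ▸ bound K2 _ 2 K2le fun g hg j hj => by
    obtain ⟨hg1, hg''⟩ := mem_fix.mp hg
    obtain ⟨hg0, hg'⟩ := mem_fix.mp hg1
    exact ⟨(hcom j).mp ((keep (eK hg0) hj).mpr ((hcom 2).mpr z2)),
      (commute_map hinj).mp ((keep hg' hj).mpr ((commute_map hinj).mpr k02)),
      fun k => n12 ((commute_map hinj).mp ((keep hg'' hj).mp ((commute_map hinj).mpr k)))⟩
  have b4 : Nat.card ↥K3 ≤ 1 * Nat.card ↥F := c1 ▸ bound K3 _ 3 K3le fun g hg j hj => by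
    obtain ⟨hg2, -⟩ := mem_fix.mp hg
    obtain ⟨hg1, hg''⟩ := mem_fix.mp hg2
    obtain ⟨hg0, hg'⟩ := mem_fix.mp hg1
    exact ⟨(hcom j).mp ((keep (eK hg0) hj).mpr ((hcom 3).mpr z3)),
      (commute_map hinj).mp ((keep hg' hj).mpr ((commute_map hinj).mpr k03)),
      (commute_map hinj).mp ((keep hg'' hj).mpr ((commute_map hinj).mpr k13))⟩
  have memF : ∀ {g}, g ∈ F → g ∈ cen d ⊓ nor x ∧ Commute g e ∧ Commute g (φ (e10 0)) ∧ Commute g (φ (e10 1)) ∧
      Commute g (φ (e10 2)) ∧ Commute g (φ (e10 3)) := fun {g} hg => by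
    obtain ⟨k3, q3⟩ := mem_fix.mp hg
    obtain ⟨k2, q2⟩ := mem_fix.mp k3
    obtain ⟨k1, q1⟩ := mem_fix.mp k2
    obtain ⟨k0, q0⟩ := mem_fix.mp k1
    obtain ⟨k, qe⟩ := mem_fix.mp k0
    exact ⟨k, qe, q0, q1, q2, q3⟩
  have hxF : x ∈ F := mem_fix.mpr ⟨mem_fix.mpr ⟨mem_fix.mpr ⟨mem_fix.mpr ⟨mem_fix.mpr
    ⟨Subgroup.mem_inf.mpr ⟨mem_cen.mpr hxd.symm, nor_of_commute (Commute.refl x)⟩, he.2.symm⟩,
      (hmemP 0).2.symm⟩, (hmemP 1).2.symm⟩, (hmemP 2).2.symm⟩, (hmemP 3).2.symm⟩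
  obtain ⟨H, hH, hiso, hcard, hinter, htriv, hcomm, hsup⟩ := split (D := D) hx h (by norm_num : 2 ≤ 6) ψ hψ
    (fun i hi => by
      rw [hψs i hi]
      interval_cases i
      exacts [⟨hd, hxd⟩, ⟨he.1.1, he.2⟩, ⟨(hmemP 0).1.1, (hmemP 0).2⟩, ⟨(hmemP 1).1.1, (hmemP 1).2⟩,
        ⟨(hmemP 2).1.1, (hmemP 2).2⟩, ⟨(hmemP 3).1.1, (hmemP 3).2⟩])
    (by rw [h21, swaps7.2]) (swaps7.1.trans swaps7.2.symm) F (fun g hg => (memF hg).1.2)
    (fun g hg i hi => by
      obtain ⟨k, qe, q0, q1, q2, q3⟩ := memF hg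
      rw [hψs i hi]
      interval_cases i
      exacts [mem_cen.mp k.1, qe, q0, q1, q2, q3])
    hxF (by rw [hnor, show Nat.factorial (6 + 1) = 5040 by rfl]; omega)
    (hcent.trans (by rw [show Nat.factorial (6 + 1) = 5040 by rfl]))
  refine ⟨F, H, hH, hiso, ?_, hxF, hinter, htriv, hcomm, hsup⟩
  rw [hnor, show Nat.factorial (6 + 1) = 5040 by rfl] at hcard
  omega

end Cfsg.Agent.Grp.M23Local
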