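import Cfsg.Agent.Lib.Grp.M23Local.Base

/-! The members commuting with an element of prime order, in a group of type M(23). -/

set_option autoImplicit false
set_option linter.style.haveILetI false
set_option linter.unusedSectionVars false

namespace Cfsg.Agent.Grp.M23Local

open Cfsg Cfsg.Agent.Spor.ThreeTrans Cfsg.Agent.Block.FischerTypes Cfsg.Agent.Grp.M22Local

variable {G : Type*} [Group G] [Finite G] {D : Set G}

/-- Subgroups of order `p` of the perpendicular quotients are conjugate. -/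
def QuotConj (D : Set G) (p : ℕ) : Prop :=
  ∀ d ∈ D, ∀ X Y : Subgroup (PerpQuot D d), Nat.card ↥X = p → Nat.card ↥Y = p →
    ∃ g, X.map (MulAut.conj g).toMonoidHom = Y

theorem conj_fixed {g x d : G} (hg : g ∈ nor x) (h : IsThreeTranspositionClass D) (hd : d ∈ fixed D x) :
    g * d * g⁻¹ ∈ fixed D x :=
  ⟨conj_mem h g hd.1, comm_nor hg hd.2⟩

variable (B : M23.Base D) {p : ℕ} [Fact p.Prime]
include B

theorem card_G (hne : D.Nonempty) : Nat.card G = 31671 * (2 * 64561751654400) := M23.card_group B hne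

theorem exists_fixed (hne : D.Nonempty) (hmod : 31671 % p ≠ 0) {x : G} (hx : orderOf x = p) :
    (fixed D x).Nonempty := by
  refine Set.nonempty_of_ncard_ne_zero fun h0 => hmod ?_
  have k := fixed_modEq hx D fun g d hd => conj_mem B.set.cls g hd
  rw [show {d | d ∈ D ∧ Commute d x} = fixed D x from rfl, h0, M23.total B hne (M23.counts B)] at k
  exact k

variable (hp : p ≠ 2) (hK : QuotConj D p)
include hp hK

theorem move {a d x : G} (ha : a ∈ D) (hd : d ∈ D) (hx : orderOf x = p) (hxa : Commute a x)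
    (hxd : Commute d x) : ∃ m ∈ nor x, m * a * m⁻¹ = d := by
  obtain ⟨k, rfl⟩ := transitive B.set.cls ha hd
  obtain ⟨l, hl, e⟩ := conj_cen B hd hp (hK _ hd) (x := k * x * k⁻¹) (y := x)
    ((MulEquiv.orderOf_eq (MulAut.conj k) x).trans hx) hx ((commute_conj_iff k x a).mpr hxa.symm) hxd.symm
  refine ⟨l * k, mem_normalizer_zpowers ?_, ?_⟩
  · rw [← e]
    convert Subgroup.mem_zpowers (l * (k * x * k⁻¹) * l⁻¹) using 1
    simp [mul_assoc]
  · calc l * k * a * (l * k)⁻¹ = l * (k * a * k⁻¹) * l⁻¹ := by simp [mul_assoc]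
      _ = k * a * k⁻¹ := by rw [hl.eq, mul_inv_cancel_right]

theorem orb_nor {a x : G} (ha : a ∈ D) (hx : orderOf x = p) (hxa : Commute a x) : orb (nor x) a = fixed D x := by
  ext d
  constructor
  · rintro ⟨m, hm, rfl⟩
    exact conj_fixed hm B.set.cls ⟨ha, hxa⟩
  · rintro ⟨hd, hxd⟩
    exact move B hp hK ha hd hx hxa hxd

theorem card_nor {a x : G} (ha : a ∈ D) (hx : orderOf x = p) (hxa : Commute a x) :
    Nat.card ↥(nor x) = (fixed D x).ncard * Nat.card ↥(cen a ⊓ nor x) := by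
  rw [← card_orb (nor x) a, orb_nor B hp hK ha hx hxa, show fix (nor x) a = cen a ⊓ nor x from inf_comm _ _]

theorem fixedPerp_eq {a d x : G} (ha : a ∈ D) (hd : d ∈ D) (hx : orderOf x = p) (hxa : Commute a x)
    (hxd : Commute d x) : (fixedPerp D x d).ncard = (fixedPerp D x a).ncard := by
  obtain ⟨m, hm, rfl⟩ := move B hp hK ha hd hx hxa hxd
  have e : fixedPerp D x (m * a * m⁻¹) = (fun u => m * u * m⁻¹) '' fixedPerp D x a := by
    ext u
    constructor
    · intro hu
      refine ⟨m⁻¹ * u * m, ⟨?_, nor_le_of_commute hm hu.2⟩, by simp [mul_assoc]⟩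
      rw [← conj_mem_perp B.set.cls m a]
      simpa [mul_assoc] using hu.1
    · rintro ⟨v, hv, rfl⟩
      exact ⟨(conj_mem_perp B.set.cls m a).mpr hv.1, comm_nor hm hv.2⟩
  rw [e, Set.ncard_image_of_injective _ fun u v k => mul_left_cancel (mul_right_cancel k)]

theorem conj_all (hne : D.Nonempty) (hmod : 31671 % p ≠ 0) {X Y : Subgroup G} (hX : Nat.card ↥X = p)
    (hY : Nat.card ↥Y = p) : ∃ g : G, X.map (MulAut.conj g).toMonoidHom = Y := by
  obtain ⟨x, hx, hox⟩ := exists_gen hX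
  obtain ⟨y, hy, hoy⟩ := exists_gen hY
  have hx1 : x ≠ 1 := by rintro rfl; rw [orderOf_one] at hox; exact (Fact.out : p.Prime).ne_one hox.symm
  have hy1 : y ≠ 1 := by rintro rfl; rw [orderOf_one] at hoy; exact (Fact.out : p.Prime).ne_one hoy.symm
  obtain ⟨d, hd, hdx⟩ := exists_fixed B hne hmod hox
  obtain ⟨e, he, hey⟩ := exists_fixed B hne hmod hoy
  obtain ⟨k, rfl⟩ := transitive B.set.cls hd he
  rw [eq_zpowers hX hx hx1, eq_zpowers hY hy hy1]
  obtain ⟨l, -, hl⟩ := conj_cen B he hp (hK _ he) (x := k * x * k⁻¹) (y := y)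
    ((MulEquiv.orderOf_eq (MulAut.conj k) x).trans hox) hoy ((commute_conj_iff k x d).mpr hdx.symm) hey.symm
  refine ⟨l * k, ?_⟩
  rw [map_zpowers, ← hl]
  simp [mul_assoc]

omit hp hK [Fact p.Prime] in
theorem card_apart {d : G} (hd : d ∈ D) : (apart D d).ncard = 28160 := by
  have e : D = insert d (perp D d) ∪ apart D d := by
    ext u
    constructor
    · intro hu
      by_cases k : Commute u d
      · by_cases e : u = d
        · exact Or.inl (Or.inl e)
        · exact Or.inl (Or.inr ⟨hu, e, k.symm⟩)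
      · exact Or.inr ⟨hu, k⟩
    · rintro ((e | hu) | hu)
      exacts [e ▸ hd, hu.1, hu.1]
  have hD := M23.total B ⟨d, hd⟩ (M23.counts B)
  rw [e, Set.ncard_union_eq (Set.disjoint_left.mpr ?_) (Set.toFinite _) (Set.toFinite _),
    Set.ncard_insert_of_notMem (fun k => k.2.1 rfl) (Set.toFinite _), M23.card_perp B hd (M23.counts B d hd)] at hD
  · omega
  · rintro u (e | hu) ⟨-, k⟩
    exacts [k (e ▸ Commute.refl d), k hu.2.2.symm]

omit hp hK [Fact p.Prime] in
theorem card_pair {d e : G} (hd : d ∈ D) (he : e ∈ apart D d) : Nat.card ↥(fix (cen d) e) = 4585351680 := by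
  have h := card_orb (cen d) e
  have ho : orb (cen d) e = apart D d := by
    ext u
    constructor
    · rintro ⟨g, hg, rfl⟩
      exact apart_conj B.set.cls (mem_cen.mp hg) he
    · intro hu
      obtain ⟨g, hg, k⟩ := transitive_apart B.set.hyp hd he hu
      exact ⟨g, mem_cen.mpr (localGroup_commute hg), k⟩
  rw [ho, card_apart B hd, card_cen B hd] at h
  omega

omit hp hK in
theorem fixed_count {x a : G} (ha : a ∈ D) (hxa : Commute a x) :
    (fixed D x).ncard = 1 + (fixedPerp D x a).ncard + (fixedApart D x a).ncard := by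
  have e : fixed D x = insert a (fixedPerp D x a) ∪ fixedApart D x a := by
    ext d
    constructor
    · intro hd
      by_cases hc : Commute a d
      · by_cases he : d = a
        · exact Or.inl (Or.inl he)
        · exact Or.inl (Or.inr ⟨⟨hd.1, he, hc⟩, hd.2⟩)
      · exact Or.inr ⟨⟨hd.1, fun k => hc k.symm⟩, hd.2⟩
    · rintro ((rfl | hd) | hd)
      · exact ⟨ha, hxa⟩
      · exact ⟨hd.1.1, hd.2⟩
      · exact ⟨hd.1.1, hd.2⟩
  rw [e, Set.ncard_union_eq, Set.ncard_insert_of_notMem (fun k => k.1.2.1 rfl)]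
  · omega
  · rw [Set.disjoint_left]
    rintro d (rfl | hd) hd'
    · exact hd'.1.2 (Commute.refl _)
    · exact hd'.1.2 hd.1.2.2.symm

omit hp hK in
theorem move_apart (hdvd : ¬ p ^ 2 ∣ 4585351680) {a e f x : G} (ha : a ∈ D) (hx : orderOf x = p)
    (hxa : Commute a x) (he : e ∈ fixedApart D x a) (hf : f ∈ fixedApart D x a) :
    ∃ k ∈ cen a ⊓ nor x, k * e * k⁻¹ = f := by
  obtain ⟨k, hk, rfl⟩ := transitive_apart B.set.hyp ha (a₀ := e) he.1 (b₀ := f) hf.1
  have hka : Commute k a := localGroup_commute hk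
  have h1 : Subgroup.zpowers (k * x * k⁻¹) ≤ fix (cen a) (k * e * k⁻¹) := by
    refine Subgroup.zpowers_le.mpr (mem_fix.mpr ⟨mem_cen.mpr ?_, (commute_conj_iff k x e).mpr he.2.symm⟩)
    exact (hka.mul_left hxa.symm).mul_left hka.inv_left
  have h2 : Subgroup.zpowers x ≤ fix (cen a) (k * e * k⁻¹) :=
    Subgroup.zpowers_le.mpr (mem_fix.mpr ⟨mem_cen.mpr hxa.symm, hf.2.symm⟩)
  obtain ⟨l, hl, e'⟩ := conj_exact (fix (cen a) (k * e * k⁻¹))
    (by rw [card_pair B ha hf.1]; exact hdvd)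
    (X := Subgroup.zpowers (k * x * k⁻¹)) (Y := Subgroup.zpowers x)
    (by rw [Nat.card_zpowers]; exact (MulEquiv.orderOf_eq (MulAut.conj k) x).trans hx)
    (by rw [Nat.card_zpowers, hx]) h1 h2
  obtain ⟨hla, hle⟩ := mem_fix.mp hl
  refine ⟨l * k, ⟨mem_cen.mpr ((mem_cen.mp hla).mul_left hka), mem_normalizer_zpowers ?_⟩, ?_⟩
  · rw [map_zpowers] at e'
    rw [← e']
    convert Subgroup.mem_zpowers (l * (k * x * k⁻¹) * l⁻¹) using 1
    simp [mul_assoc]
  · calc l * k * e * (l * k)⁻¹ = l * (k * e * k⁻¹) * l⁻¹ := by simp [mul_assoc]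
      _ = k * e * k⁻¹ := by rw [hle.eq, mul_inv_cancel_right]

omit hp hK in
/-- The orbit on the members apart and the congruence below it. -/
theorem apart_numbers (hdvd : ¬ p ^ 2 ∣ 4585351680) {a e x : G} (ha : a ∈ D) (hx : orderOf x = p)
    (hxa : Commute a x) (he : e ∈ fixedApart D x a) :
    orb (cen a ⊓ nor x) e = fixedApart D x a ∧
      ∃ n s, n % p = 1 ∧ n * s = 4585351680 ∧ (fixedApart D x a).ncard * s = Nat.card ↥(cen a ⊓ nor x) := by
  have ho : orb (cen a ⊓ nor x) e = fixedApart D x a := by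
    ext y
    constructor
    · rintro ⟨g, hg, rfl⟩
      exact ⟨apart_conj B.set.cls (mem_cen.mp hg.1) he.1, comm_nor hg.2 he.2⟩
    · exact fun hy => move_apart B hdvd ha hx hxa he hy
  obtain ⟨n, hn, hn'⟩ := index_modEq (fix (cen a) e) (by rw [card_pair B ha he.1]; exact hdvd)
    (X := Subgroup.zpowers x) (by rw [Nat.card_zpowers, hx])
    (Subgroup.zpowers_le.mpr (mem_fix.mpr ⟨mem_cen.mpr hxa.symm, he.2.symm⟩))
  refine ⟨ho, n, Nat.card ↥(fix (cen a ⊓ nor x) e), ?_, ?_, ?_⟩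
  · rw [hn, Nat.mod_eq_of_lt (Fact.out : p.Prime).one_lt]
  · rw [card_pair B ha he.1, show fix (cen a) e ⊓ Subgroup.normalizer ((Subgroup.zpowers x : Subgroup G) : Set G) =
      fix (cen a ⊓ nor x) e from inf_right_comm _ _ _] at hn'
    exact hn'
  · rw [← ho]; exact card_orb _ e

end Cfsg.Agent.Grp.M23Local
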